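import Groth.Agent.Nagata.CohenMap
import Groth.Agent.RegLoc.Basic
import Groth.Agent.RegLoc.CoeffField
import Groth.Agent.Adic.Basic
import Groth.Agent.S2053

/-!
# Flat complete lifts of complete regular algebras over the residue field
-/

namespace Groth.Agent.AdicFlat

open IsLocalRing TensorProduct Groth.Agent.Nagata

universe u

/-- A quotient of a complete Noetherian local ring is complete. -/
lemma isAdicComplete_quotient {S : Type u} [CommRing S] [IsLocalRing S] [IsNoetherianRing S]
    [IsAdicComplete (maximalIdeal S) S] (K : Ideal S) [IsLocalRing (S ⧸ K)] :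
    IsAdicComplete (maximalIdeal (S ⧸ K)) (S ⧸ K) := by
  have h1 : IsAdicComplete (maximalIdeal S) (S ⧸ K) :=
    Adic.isAdicComplete_of_finite (maximalIdeal S)
  rw [← IsLocalRing.map_maximalIdeal_of_surjective (Ideal.Quotient.mk K)
    Ideal.Quotient.mk_surjective, ← Ideal.Quotient.algebraMap_eq]
  exact (IsAdicComplete.map_algebraMap_iff _ _).2 h1

/-- A surjection from a regular local ring onto a regular local ring with an embedding dimension at
most that of the target is injective. -/
lemma injective_of_surjective_regular {S B : Type u} [CommRing S] [CommRing B]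
    [IsRegularLocalRing S] [IsRegularLocalRing B] (f : S →+* B) (hf : Function.Surjective f)
    (hle : (maximalIdeal S).spanFinrank ≤ (maximalIdeal B).spanFinrank) : Function.Injective f := by
  haveI := RegLoc.isDomain S
  refine (injective_iff_map_eq_zero f).mpr fun x hx => ?_
  by_contra hne
  have h1 := ringKrullDim_quotient_succ_le_of_nonZeroDivisor (mem_nonZeroDivisors_of_ne_zero hne)
  have h2 : ringKrullDim B ≤ ringKrullDim (S ⧸ Ideal.span {x}) := by
    refine ringKrullDim_le_of_surjective (Ideal.Quotient.lift _ f fun a ha => ?_)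
      (Ideal.Quotient.lift_surjective_of_surjective _ _ hf)
    obtain ⟨c, rfl⟩ := Ideal.mem_span_singleton'.mp ha
    rw [map_mul, hx, mul_zero]
  have h3 := (add_le_add_left h2 1).trans h1
  rw [← IsRegularLocalRing.spanFinrank_maximalIdeal (R := S),
    ← IsRegularLocalRing.spanFinrank_maximalIdeal (R := B)] at h3
  have : (maximalIdeal B).spanFinrank + 1 ≤ (maximalIdeal S).spanFinrank := by exact_mod_cast h3
  omega

variable {Λ : Type u} [CommRing Λ]

set_option maxHeartbeats 800000 in
/-- Flat lift over chosen coefficient rings. -/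
theorem exists_flat_lift_of_coeff {A B : Type u} [CommRing A] [CommRing B] [IsLocalRing A]
    [IsNoetherianRing A] [IsRegularLocalRing B] [IsAdicComplete (maximalIdeal A) A]
    [IsAdicComplete (maximalIdeal B) B] [Algebra A B] [IsLocalHom (algebraMap A B)]
    (hAB : ∀ a ∈ maximalIdeal A, algebraMap A B a = 0)
    {Λ' : Type u} [CommRing Λ'] [IsLocalRing Λ] [IsNoetherianRing Λ]
    [IsLocalRing Λ'] [IsNoetherianRing Λ'] [IsAdicComplete (maximalIdeal Λ') Λ'] {e : ℕ}
    (he : (e : WithBot ℕ∞) ≤ ringKrullDim Λ) (he' : (e : WithBot ℕ∞) ≤ ringKrullDim Λ') (q : ℕ)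
    (hq : maximalIdeal Λ = Ideal.span {(q : Λ)}) (hq' : maximalIdeal Λ' = Ideal.span {(q : Λ')})
    (hq0 : e = 0 → (q : Λ) = 0) (hq0' : e = 0 → (q : Λ') = 0)
    (g : Λ →+* A) (hg : Function.Surjective ((residue A).comp g))
    (g' : Λ' →+* B) (hg' : Function.Surjective ((residue B).comp g'))
    (hlift : ∀ (m : ℕ) [IsLocalRing (MvPowerSeries (Fin m) Λ')],
      CohenMap.Lifts Λ (MvPowerSeries (Fin m) Λ')) :
    ∃ (C : Type u) (_ : CommRing C) (_ : IsLocalRing C) (_ : IsNoetherianRing C) (_ : Algebra A C)
      (_ : IsLocalHom (algebraMap A C)),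
      IsAdicComplete (maximalIdeal C) C ∧ Module.Flat A C ∧
        ∃ π : C →ₐ[A] B, Function.Surjective π ∧
          RingHom.ker π = (maximalIdeal A).map (algebraMap A C) := by
  classical
  obtain ⟨l, b, hb, hl⟩ : ∃ (l : ℕ) (b : Fin l → B),
      Ideal.span (Set.range b) = maximalIdeal B ∧ l = (maximalIdeal B).spanFinrank := by
    have hfg : (maximalIdeal B).FG := IsNoetherian.noetherian _
    have hfin := Submodule.FG.finite_generators hfg
    have hcard := Submodule.FG.generators_ncard hfg
    have : Fintype (maximalIdeal B).generators := hfin.fintype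
    have hc : Fintype.card (maximalIdeal B).generators = (maximalIdeal B).spanFinrank := by
      rw [← hcard, Set.ncard_eq_toFinset_card', Set.toFinset_card]
    refine ⟨_, fun i => ((Fintype.equivFinOfCardEq hc).symm i : B), ?_, rfl⟩
    rw [show (fun i => ((Fintype.equivFinOfCardEq hc).symm i : B)) =
      Subtype.val ∘ (Fintype.equivFinOfCardEq hc).symm from rfl, Set.range_comp,
      (Fintype.equivFinOfCardEq hc).symm.range_eq_univ, Set.image_univ, Subtype.range_coe]
    exact Submodule.span_generators _
  obtain ⟨n, ρ, σ, τ, hρ, hσ, hcomm, hτ⟩ :=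
    CohenMap.exists_presentation_of_gens (A := A) he he' q hq hq' hq0 hq0' g hg g' hg' hlift b hb
  obtain ⟨hflat, hreg⟩ := CohenMap.flat_and_regular he he' q hq hq' hq0 hq0' τ hτ
  haveI := (CohenMap.regular_powerSeries he hq hq0 n).1
  haveI := (CohenMap.regular_powerSeries he' hq' hq0' (n + l)).1
  haveI := Normalization.isAdicComplete_maximalIdeal hq' (n + l)
  letI : Algebra (MvPowerSeries (Fin n) Λ) (MvPowerSeries (Fin (n + l)) Λ') := τ.toAlgebra
  have hfl : Module.Flat (MvPowerSeries (Fin n) Λ) (MvPowerSeries (Fin (n + l)) Λ') := hflat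
  letI : Algebra (MvPowerSeries (Fin n) Λ) A := ρ.toAlgebra
  let S := MvPowerSeries (Fin (n + l)) Λ'
  let R := MvPowerSeries (Fin n) Λ
  have hρm : (maximalIdeal R).map ρ = maximalIdeal A :=
    IsLocalRing.map_maximalIdeal_of_surjective ρ hρ
  have hστ : ∀ r, σ (τ r) = algebraMap A B (ρ r) := RingHom.congr_fun hcomm
  -- the fibre
  let I : Ideal S := (maximalIdeal R).map τ
  have hI0 : ∀ x ∈ I, σ x = 0 := fun x hx => by
    refine (Ideal.map_le_iff_le_comap.mpr (fun r hr => ?_ : maximalIdeal R ≤
      (RingHom.ker σ).comap τ)) hx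
    rw [Ideal.mem_comap, RingHom.mem_ker, hστ]
    exact hAB _ (hρm ▸ Ideal.mem_map_of_mem ρ hr)
  have hIm : I ≤ maximalIdeal S := fun x hx hu => by
    have := hu.map σ
    rw [hI0 x hx] at this
    exact not_isUnit_zero this
  haveI hlocI : IsLocalRing (S ⧸ I) := RegLoc.isLocalRing_quotient hIm
  let σ' : (S ⧸ I) →+* B := Ideal.Quotient.lift I σ hI0
  have hσ' : Function.Surjective σ' := Ideal.Quotient.lift_surjective_of_surjective _ _ hσ
  haveI : IsRegularRing (S ⧸ I) := hreg
  haveI := IsRegularRing.isRegularLocalRing_localization (maximalIdeal (S ⧸ I))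
  haveI : IsRegularLocalRing (S ⧸ I) := IsRegularLocalRing.of_ringEquiv
    (R := Localization.AtPrime (maximalIdeal (S ⧸ I)))
    (IsLocalization.atUnits (S ⧸ I) (maximalIdeal (S ⧸ I)).primeCompl
      (S := Localization.AtPrime (maximalIdeal (S ⧸ I))) fun x hx => by
        rw [IsUnit.mem_submonoid_iff]
        simpa [Ideal.primeCompl] using hx).toRingEquiv.symm
  have hupper : (maximalIdeal (S ⧸ I)).spanFinrank ≤ l := by
    have hm : maximalIdeal (S ⧸ I) = Ideal.span (Set.range fun j : Fin l =>
        Ideal.Quotient.mk I (MvPowerSeries.X (Fin.natAdd n j) : S)) := by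
      rw [← IsLocalRing.map_maximalIdeal_of_surjective (Ideal.Quotient.mk I)
        Ideal.Quotient.mk_surjective, Normalization.maximalIdeal_eq hq', Ideal.map_span]
      refine le_antisymm (Ideal.span_le.mpr ?_) (Ideal.span_mono ?_)
      · rintro _ ⟨x, rfl | ⟨i, rfl⟩, rfl⟩
        · have hz : (MvPowerSeries.C (q : Λ') : S) ∈ I := by
            have : (q : R) ∈ maximalIdeal R := by
              rw [Normalization.maximalIdeal_eq hq, map_natCast]
              exact Ideal.subset_span (Or.inl rfl)
            have := Ideal.mem_map_of_mem τ this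
            rwa [map_natCast, ← map_natCast (MvPowerSeries.C (σ := Fin (n + l)) (R := Λ'))] at this
          rw [Ideal.Quotient.eq_zero_iff_mem.mpr hz]
          exact zero_mem _
        · induction i using Fin.addCases with
          | left i =>
            have : (MvPowerSeries.X (Fin.castAdd l i) : S) ∈ I := by
              rw [← hτ]
              refine Ideal.mem_map_of_mem τ ?_
              rw [Normalization.maximalIdeal_eq hq]
              exact Ideal.subset_span (Or.inr (Set.mem_range_self _))
            rw [Ideal.Quotient.eq_zero_iff_mem.mpr this]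
            exact zero_mem _
          | right j => exact Ideal.subset_span ⟨j, rfl⟩
      · rintro _ ⟨j, rfl⟩
        exact ⟨_, Or.inr ⟨_, rfl⟩, rfl⟩
    rw [hm]
    refine (Submodule.spanFinrank_span_le_ncard_of_finite (Set.finite_range _)).trans ?_
    rw [← Set.image_univ]
    exact (Set.ncard_image_le Set.finite_univ).trans (by simp)
  have hinj : Function.Injective σ' := injective_of_surjective_regular σ' hσ' (hl ▸ hupper)
  have hker : RingHom.ker σ = I := le_antisymm (fun x hx =>
    Ideal.Quotient.eq_zero_iff_mem.mp (hinj (by rw [map_zero]; exact hx))) hI0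
  -- the lift
  let K : Ideal R := RingHom.ker ρ
  let C := S ⧸ K.map (algebraMap R S)
  have hK0 : ∀ x ∈ K.map (algebraMap R S), σ x = 0 := fun x hx => by
    refine (Ideal.map_le_iff_le_comap.mpr (fun r hr => ?_ : K ≤ (RingHom.ker σ).comap τ)) hx
    rw [Ideal.mem_comap, RingHom.mem_ker, hστ, show ρ r = 0 from hr, map_zero]
  let π₀ : C →+* B := Ideal.Quotient.lift _ σ hK0
  have hπ₀ : Function.Surjective π₀ := Ideal.Quotient.lift_surjective_of_surjective _ _ hσ
  haveI : Nontrivial C := π₀.domain_nontrivial
  haveI : IsLocalRing C := .of_surjective' (Ideal.Quotient.mk _) Ideal.Quotient.mk_surjective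
  haveI : IsNoetherianRing C :=
    isNoetherianRing_of_surjective S C (Ideal.Quotient.mk _) Ideal.Quotient.mk_surjective
  let eA : R ⧸ K ≃+* A := RingHom.quotientKerEquivOfSurjective hρ
  let f₀ : R ⧸ K →+* C := Ideal.quotientMap _ (algebraMap R S) Ideal.le_comap_map
  letI : Algebra A C := (f₀.comp eA.symm.toRingHom).toAlgebra
  have halg : ∀ r, algebraMap A C (ρ r) = Ideal.Quotient.mk _ (τ r) := fun r => by
    change f₀ (eA.symm (ρ r)) = _
    rw [show eA.symm (ρ r) = Ideal.Quotient.mk K r from eA.symm_apply_apply (Ideal.Quotient.mk K r)]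
    rfl
  let π : C →ₐ[A] B :=
    { π₀ with
      commutes' := fun a => by
        obtain ⟨r, rfl⟩ := hρ a
        change π₀ (algebraMap A C (ρ r)) = _
        rw [halg]
        exact hστ r }
  have hπker : RingHom.ker π = (maximalIdeal A).map (algebraMap A C) := by
    refine le_antisymm (fun c hc => ?_) (Ideal.map_le_iff_le_comap.mpr fun a ha => ?_)
    · obtain ⟨s, rfl⟩ := Ideal.Quotient.mk_surjective c
      have hs : s ∈ I := hker ▸ (hc : σ s = 0)
      refine (Ideal.map_le_iff_le_comap.mpr (fun r hr => ?_ : maximalIdeal R ≤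
        (((maximalIdeal A).map (algebraMap A C)).comap (Ideal.Quotient.mk _)).comap τ)) hs
      rw [Ideal.mem_comap, Ideal.mem_comap, ← halg]
      exact Ideal.mem_map_of_mem _ (hρm ▸ Ideal.mem_map_of_mem ρ hr)
    · rw [Ideal.mem_comap, RingHom.mem_ker]
      exact (π.commutes a).trans (hAB a ha)
  haveI hloc : IsLocalHom (algebraMap A C) := ⟨fun a ha => by
    have h1 := ha.map π.toRingHom
    rw [AlgHom.toRingHom_eq_coe, RingHom.coe_coe, π.commutes] at h1
    exact isUnit_of_map_unit (algebraMap A B) a h1⟩
  have hflatC : (algebraMap A C).Flat := by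
    have : Module.Flat R S := hfl
    have h0 : Module.Flat (R ⧸ K) ((R ⧸ K) ⊗[R] S) := Module.Flat.baseChange _ _ _
    let ι : (R ⧸ K) →+* (R ⧸ K) ⊗[R] S := algebraMap (R ⧸ K) ((R ⧸ K) ⊗[R] S)
    have h1 : @RingHom.Flat (R ⧸ K) ((R ⧸ K) ⊗[R] S) inferInstance inferInstance ι := by
      exact RingHom.flat_algebraMap_iff.mpr h0
    let g₁ : (R ⧸ K) ⊗[R] S ≃ₐ[R] C :=
      (Algebra.TensorProduct.comm R (R ⧸ K) S).trans
        ((Algebra.TensorProduct.quotIdealMapEquivTensorQuot S K).symm.restrictScalars R)
    have h2 : f₀ = g₁.toRingEquiv.toRingHom.comp ι := by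
      refine Ideal.Quotient.ringHom_ext (RingHom.ext fun r => ?_)
      exact (g₁.commutes r).symm
    refine RingHom.Flat.comp (RingHom.Flat.of_bijective eA.symm.bijective) ?_
    rw [h2]
    exact RingHom.Flat.comp h1 (RingHom.Flat.of_bijective g₁.toRingEquiv.bijective)
  exact ⟨C, inferInstance, inferInstance, inferInstance, inferInstance, hloc,
    isAdicComplete_quotient _, RingHom.flat_algebraMap_iff.mp hflatC, π, hπ₀, hπker⟩

set_option maxHeartbeats 800000 in
/-- A complete regular local algebra over the residue field of a complete Noetherian local ring has a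
flat complete Noetherian local lift. -/
theorem exists_flat_lift {A B : Type u} [CommRing A] [CommRing B] [IsLocalRing A]
    [IsNoetherianRing A] [IsRegularLocalRing B] [IsAdicComplete (maximalIdeal A) A]
    [IsAdicComplete (maximalIdeal B) B] [Algebra A B] [IsLocalHom (algebraMap A B)]
    (hAB : ∀ a ∈ maximalIdeal A, algebraMap A B a = 0) :
    ∃ (C : Type u) (_ : CommRing C) (_ : IsLocalRing C) (_ : IsNoetherianRing C) (_ : Algebra A C)
      (_ : IsLocalHom (algebraMap A C)),
      IsAdicComplete (maximalIdeal C) C ∧ Module.Flat A C ∧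
        ∃ π : C →ₐ[A] B, Function.Surjective π ∧
          RingHom.ker π = (maximalIdeal A).map (algebraMap A C) := by
  classical
  let φ : ResidueField A →+* ResidueField B := IsLocalRing.ResidueField.map (algebraMap A B)
  by_cases h0 : CharZero (ResidueField A)
  · have : CharZero (ResidueField B) := charZero_of_injective_ringHom φ.injective
    obtain ⟨s, hs⟩ := Groth.Agent.RegLoc.exists_coefficient_field A
    obtain ⟨s', hs'⟩ := Groth.Agent.RegLoc.exists_coefficient_field B
    have hbot : ∀ (F : Type u) [Field F], maximalIdeal F = Ideal.span {((0 : ℕ) : F)} := fun F _ => by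
      rw [Nat.cast_zero, Ideal.span_singleton_eq_bot.mpr rfl]
      exact IsLocalRing.isField_iff_maximalIdeal_eq.mp (Field.toIsField F)
    have : IsAdicComplete (maximalIdeal (ResidueField B)) (ResidueField B) := by
      rw [IsLocalRing.isField_iff_maximalIdeal_eq.mp (Field.toIsField (ResidueField B))]
      infer_instance
    exact exists_flat_lift_of_coeff (A := A) (B := B) hAB
      (Λ := ResidueField A) (Λ' := ResidueField B) (e := 0)
      (by simp) (by simp)
      0 (hbot _) (hbot _) (fun _ => Nat.cast_zero) (fun _ => Nat.cast_zero)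
      s (fun x => ⟨x, RingHom.congr_fun hs x⟩) s' (fun x => ⟨x, RingHom.congr_fun hs' x⟩)
      (fun m _ => by
        have : CharZero (ResidueField (MvPowerSeries (Fin m) (ResidueField B))) :=
          charZero_of_injective_ringHom ((residue (MvPowerSeries (Fin m) (ResidueField B))).comp
            MvPowerSeries.C).injective
        exact CohenMap.lifts_of_charZero _)
  · obtain ⟨p, hchar⟩ := CharP.exists (ResidueField A)
    have hp : p.Prime := by
      rcases CharP.char_is_prime_or_zero (ResidueField A) p with hp | rfl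
      · exact hp
      · exact absurd (CharP.charP_to_charZero (ResidueField A)) h0
    have := Fact.mk hp
    have : CharP (ResidueField B) p := charP_of_injective_ringHom φ.injective p
    obtain ⟨Λ, _, hd, hv, hc, hm, g, hg⟩ := Groth.Agent.S2053.exists_cohen A p
    obtain ⟨Λ', _, hd', hv', hc', hm', g', hg'⟩ := Groth.Agent.S2053.exists_cohen B p
    have hdim : ∀ (D : Type u) [CommRing D] [IsDomain D] [IsDiscreteValuationRing D],
        ((1 : ℕ) : WithBot ℕ∞) ≤ ringKrullDim D := fun D _ _ _ =>
      (IsPrincipalIdealRing.ringKrullDim_eq_one D (IsDiscreteValuationRing.not_isField D)).ge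
    exact exists_flat_lift_of_coeff (A := A) (B := B) hAB
      (Λ := Λ) (Λ' := Λ') (e := 1) (hdim _) (hdim _) p hm hm'
      (fun h => absurd h one_ne_zero) (fun h => absurd h one_ne_zero) g hg g' hg'
      (fun m _ => CohenMap.lifts_of_cohen p hp hm _ (by
        rw [Normalization.maximalIdeal_eq hm', map_natCast]
        exact Ideal.subset_span (Or.inl rfl)))


end Groth.Agent.AdicFlat
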