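import Groth.Agent.AdicFlat.Lift
import Groth.Agent.AdicFlat.Exists
import Groth.Agent.AdicFS.LiftComplete
import Groth.Agent.AdicFS.FlatComplete
import Groth.Agent.AdicFS.Basic
import Groth.Agent.CAlg48.CompletionFS
import Groth.Agent.RegLoc.CompleteTrans
import Groth.Agent.EGA4Lib.CplFlat
import Groth.Agent.S4573
import Groth.Agent.S4512
import Groth.Agent.S9317
import Groth.Agent.S2471
import Groth.Agent.FDesc.Algebra

/-!
# Formal smoothness and the special fibre
-/

namespace Groth.Agent.AdicFlat

open IsLocalRing TensorProduct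

universe u

/-- Transport of adic formal smoothness along compatible ring isomorphisms. -/
theorem isAdicFormallySmooth_of_ringEquiv {R R' S S' : Type u} [CommRing R] [CommRing R']
    [CommRing S] [CommRing S'] [Algebra R S] [Algebra R' S'] (e : R ≃+* R') (f : S ≃+* S')
    (hc : ∀ r, f (algebraMap R S r) = algebraMap R' S' (e r)) (𝔫 : Ideal S)
    (h : CAlgX.IsAdicFormallySmooth R S 𝔫) :
    CAlgX.IsAdicFormallySmooth R' S' (𝔫.map f.toRingHom) := by
  intro A _ _ J hJ ψ hψ
  letI : Algebra R A := ((algebraMap R' A).comp e.toRingHom).toAlgebra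
  have hR : ∀ r, algebraMap R (A ⧸ J) r = algebraMap R' (A ⧸ J) (e r) := fun r => rfl
  let ψ₀ : S →ₐ[R] A ⧸ J :=
    { ψ.toRingHom.comp f.toRingHom with
      commutes' := fun r => by
        change ψ (f (algebraMap R S r)) = _
        rw [hc, ψ.commutes, hR] }
  obtain ⟨k, hk⟩ := hψ
  obtain ⟨χ, hχ⟩ := h A J hJ ψ₀ ⟨k, fun x hx => hk _ (by
    rw [← Ideal.map_pow]; exact Ideal.mem_map_of_mem f.toRingHom hx)⟩
  refine ⟨{ χ.toRingHom.comp f.symm.toRingHom with
      commutes' := fun r => by
        change χ (f.symm (algebraMap R' S' r)) = _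
        obtain ⟨r, rfl⟩ := e.surjective r
        rw [← hc, f.symm_apply_apply, χ.commutes]
        rfl }, AlgHom.ext fun x => ?_⟩
  exact (AlgHom.congr_fun hχ (f.symm x)).trans (congrArg ψ (f.apply_symm_apply x))

variable {R S : Type u} [CommRing R] [IsLocalRing R] [CommRing S] [IsLocalRing S] [Algebra R S]

/-- Reduction modulo the maximal ideal of the base. -/
theorem isAdicFormallySmooth_quotient
    (h : CAlgX.IsAdicFormallySmooth R S (maximalIdeal S)) :
    CAlgX.IsAdicFormallySmooth (R ⧸ maximalIdeal R) (S ⧸ (maximalIdeal R).map (algebraMap R S))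
      ((maximalIdeal S).map (Ideal.Quotient.mk _)) := by
  intro A _ _ J hJ ψ hψ
  letI : Algebra R A := ((algebraMap (R ⧸ maximalIdeal R) A).comp (Ideal.Quotient.mk _)).toAlgebra
  let ψ₀ : S →ₐ[R] A ⧸ J :=
    { ψ.toRingHom.comp (Ideal.Quotient.mk _) with
      commutes' := fun r => ψ.commutes (Ideal.Quotient.mk _ r) }
  obtain ⟨k, hk⟩ := hψ
  obtain ⟨χ, hχ⟩ := h A J hJ ψ₀ ⟨k, fun x hx => hk _ (by
    rw [← Ideal.map_pow]; exact Ideal.mem_map_of_mem _ hx)⟩
  have h0 : ∀ x ∈ (maximalIdeal R).map (algebraMap R S), χ x = 0 := by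
    intro x hx
    refine (Ideal.map_le_iff_le_comap.mpr fun r hr => ?_ :
      (maximalIdeal R).map (algebraMap R S) ≤ RingHom.ker χ) hx
    rw [Ideal.mem_comap, RingHom.mem_ker, χ.commutes]
    change algebraMap (R ⧸ maximalIdeal R) A (Ideal.Quotient.mk _ r) = 0
    rw [Ideal.Quotient.eq_zero_iff_mem.mpr hr, map_zero]
  refine ⟨{ Ideal.Quotient.lift _ χ.toRingHom h0 with
      commutes' := fun c => by
        obtain ⟨r, rfl⟩ := Ideal.Quotient.mk_surjective c
        exact χ.commutes r }, AlgHom.ext fun x => ?_⟩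
  obtain ⟨x, rfl⟩ := Ideal.Quotient.mk_surjective x
  exact AlgHom.congr_fun hχ x

variable (R S) [IsLocalHom (algebraMap R S)]

lemma map_maximalIdeal_le' : (maximalIdeal R).map (algebraMap R S) ≤ maximalIdeal S :=
  ((local_hom_TFAE (algebraMap R S)).out 0 2 rfl rfl).mp ‹_›

/-- The identification of `S / m S` with the fibre. -/
noncomputable def quotientEquivFiber :
    (S ⧸ (maximalIdeal R).map (algebraMap R S)) ≃ₐ[R] (maximalIdeal R).Fiber S :=
  (((Algebra.TensorProduct.quotIdealMapEquivTensorQuot S (maximalIdeal R)).restrictScalars R).trans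
    (Algebra.TensorProduct.comm R S (R ⧸ maximalIdeal R))).trans
    (Algebra.TensorProduct.congr (AlgEquiv.ofBijective
      (IsScalarTower.toAlgHom R (R ⧸ maximalIdeal R) (maximalIdeal R).ResidueField)
      (Ideal.bijective_algebraMap_quotient_residueField _)) AlgEquiv.refl)

instance isLocalRing_fiber : IsLocalRing ((maximalIdeal R).Fiber S) := by
  haveI : IsLocalRing (S ⧸ (maximalIdeal R).map (algebraMap R S)) :=
    RegLoc.isLocalRing_quotient (map_maximalIdeal_le' R S)
  exact (quotientEquivFiber R S).toRingEquiv.isLocalRing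

lemma isNoetherianRing_fiber [IsNoetherianRing S] : IsNoetherianRing ((maximalIdeal R).Fiber S) :=
  isNoetherianRing_of_ringEquiv _ (quotientEquivFiber R S).toRingEquiv

theorem fiber_iff :
    CAlgX.IsAdicFormallySmooth (maximalIdeal R).ResidueField ((maximalIdeal R).Fiber S)
        (maximalIdeal ((maximalIdeal R).Fiber S)) ↔
      CAlgX.IsAdicFormallySmooth (R ⧸ maximalIdeal R) (S ⧸ (maximalIdeal R).map (algebraMap R S))
        ((maximalIdeal S).map (Ideal.Quotient.mk _)) := by
  haveI : IsLocalRing (S ⧸ (maximalIdeal R).map (algebraMap R S)) :=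
    RegLoc.isLocalRing_quotient (map_maximalIdeal_le' R S)
  let e : (R ⧸ maximalIdeal R) ≃+* (maximalIdeal R).ResidueField :=
    RingEquiv.ofBijective (algebraMap (R ⧸ maximalIdeal R) (maximalIdeal R).ResidueField)
      (Ideal.bijective_algebraMap_quotient_residueField _)
  let f := (quotientEquivFiber R S).toRingEquiv
  have hc : ∀ c, f (algebraMap (R ⧸ maximalIdeal R) _ c) = algebraMap _ _ (e c) := fun c => by
    obtain ⟨r, rfl⟩ := Ideal.Quotient.mk_surjective c
    refine ((quotientEquivFiber R S).commutes r).trans ?_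
    rw [IsScalarTower.algebraMap_apply R (maximalIdeal R).ResidueField ((maximalIdeal R).Fiber S)]
    rfl
  rw [IsLocalRing.map_maximalIdeal_of_surjective (Ideal.Quotient.mk _) Ideal.Quotient.mk_surjective]
  constructor
  · intro h
    have := isAdicFormallySmooth_of_ringEquiv e.symm f.symm (fun c => by
      obtain ⟨c, rfl⟩ := e.surjective c
      rw [← hc, f.symm_apply_apply, e.symm_apply_apply]) _ h
    rwa [IsLocalRing.map_maximalIdeal_of_surjective f.symm.toRingHom f.symm.surjective] at this
  · intro h
    have := isAdicFormallySmooth_of_ringEquiv e f hc _ h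
    rwa [IsLocalRing.map_maximalIdeal_of_surjective f.toRingHom f.surjective] at this

variable {R S}

/-- Flat with geometrically regular special fibre implies formally smooth. -/
theorem isAdicFormallySmooth_of_geometricallyRegular [IsNoetherianRing S] [Module.Flat R S]
    (h : CAlg.IsGeometricallyRegular (maximalIdeal R).ResidueField ((maximalIdeal R).Fiber S)) :
    CAlgX.IsAdicFormallySmooth R S (maximalIdeal S) := by
  haveI := isNoetherianRing_fiber R S
  obtain ⟨p, hp⟩ := ExpChar.exists (maximalIdeal R).ResidueField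
  exact isAdicFormallySmooth_of_flat ((fiber_iff R S).mp
    ((Groth.Agent.S4573.result p).mpr fun k' _ _ hk _ => h k' hk))

/-- A formally smooth algebra has geometrically regular special fibre. -/
theorem isGeometricallyRegular_fiber [IsNoetherianRing S]
    (h : CAlgX.IsAdicFormallySmooth R S (maximalIdeal S)) :
    CAlg.IsGeometricallyRegular (maximalIdeal R).ResidueField ((maximalIdeal R).Fiber S) := by
  haveI := isNoetherianRing_fiber R S
  exact (Groth.Agent.S4512.result ((fiber_iff R S).mpr (isAdicFormallySmooth_quotient h))).1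

/-- The special fibre of a formally smooth algebra is regular. -/
theorem isRegularLocalRing_quotient [IsNoetherianRing S]
    (h : CAlgX.IsAdicFormallySmooth R S (maximalIdeal S)) :
    IsRegularLocalRing (S ⧸ (maximalIdeal R).map (algebraMap R S)) := by
  haveI := isNoetherianRing_fiber R S
  haveI := (Groth.Agent.S2471.result.mp ((fiber_iff R S).mpr (isAdicFormallySmooth_quotient h))).1
  exact IsRegularLocalRing.of_ringEquiv (quotientEquivFiber R S).toRingEquiv.symm

/-- Formally smooth over a complete base is flat, complete case. -/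
theorem flat_of_complete [IsNoetherianRing R] [IsNoetherianRing S]
    [IsAdicComplete (maximalIdeal R) R] [IsAdicComplete (maximalIdeal S) S]
    (h : CAlgX.IsAdicFormallySmooth R S (maximalIdeal S)) : Module.Flat R S := by
  let I := (maximalIdeal R).map (algebraMap R S)
  haveI : IsLocalRing (S ⧸ I) := RegLoc.isLocalRing_quotient (map_maximalIdeal_le' R S)
  haveI := isRegularLocalRing_quotient h
  haveI := isAdicComplete_quotient (S := S) I
  have hRB : ∀ a ∈ maximalIdeal R, algebraMap R (S ⧸ I) a = 0 := fun a ha =>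
    Ideal.Quotient.eq_zero_iff_mem.mpr (Ideal.mem_map_of_mem _ ha)
  haveI : IsLocalHom (algebraMap R (S ⧸ I)) := by
    refine ⟨fun a ha => ?_⟩
    by_contra hu
    rw [hRB a hu] at ha
    exact not_isUnit_zero ha
  obtain ⟨C, _, _, _, _, _, hC, hflat, π, hπ, hker⟩ := exists_flat_lift (A := R) (B := S ⧸ I) hRB
  let e : (C ⧸ RingHom.ker π) ≃ₐ[R] S ⧸ I := Ideal.quotientKerAlgEquivOfSurjective hπ
  let u₀ : S →ₐ[R] C ⧸ RingHom.ker π := e.symm.toAlgHom.comp (Ideal.Quotient.mkₐ R I)
  have hkerle : RingHom.ker π ≤ maximalIdeal C := by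
    rw [hker]; exact map_maximalIdeal_le' R C
  haveI : IsLocalRing (C ⧸ RingHom.ker π) := RegLoc.isLocalRing_quotient hkerle
  haveI : IsHausdorff ((maximalIdeal C).map (Ideal.Quotient.mk (RingHom.ker π))) (C ⧸ RingHom.ker π) := by
    rw [IsLocalRing.map_maximalIdeal_of_surjective _ Ideal.Quotient.mk_surjective]
    haveI := isAdicComplete_quotient (S := C) (RingHom.ker π)
    infer_instance
  obtain ⟨v, -, hv⟩ := AdicFS.LiftComplete.exists_lift
    (AdicFS.Basic.isFormallySmoothAdic_maximalIdeal_iff.mpr h) (maximalIdeal C)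
    ⟨1, by rw [pow_one]; exact map_maximalIdeal_le' R C⟩ (RingHom.ker π)
    ⟨1, by rw [pow_one]; exact hkerle⟩ u₀ ⟨1, by
      rw [pow_one, IsLocalRing.map_maximalIdeal_of_surjective (Ideal.Quotient.mk _)
        Ideal.Quotient.mk_surjective]
      refine Ideal.map_le_iff_le_comap.mpr fun x hx hu => ?_
      have h1 : IsUnit (Ideal.Quotient.mk I x) := by
        have h2 : IsUnit (e (u₀ x)) := hu.map e
        rwa [show e (u₀ x) = Ideal.Quotient.mk I x from e.apply_symm_apply _] at h2
      have h3 := Ideal.mem_map_of_mem (Ideal.Quotient.mk I) hx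
      rw [IsLocalRing.map_maximalIdeal_of_surjective (Ideal.Quotient.mk I)
        Ideal.Quotient.mk_surjective] at h3
      exact (IsLocalRing.notMem_maximalIdeal.mpr h1) h3⟩
  have hv' : ∀ x, π (v x) = Ideal.Quotient.mk I x := fun x => by
    have := congrArg e (AlgHom.congr_fun hv x)
    simpa [u₀, e] using this
  haveI : IsAdicComplete ((maximalIdeal R).map (algebraMap R S)) S :=
    RegLoc.CompleteTrans.isAdicComplete_of_le (map_maximalIdeal_le' R S)
  haveI : IsAdicComplete (maximalIdeal R) S := (IsAdicComplete.map_algebraMap_iff _ _).mp ‹_›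
  haveI : IsAdicComplete ((maximalIdeal R).map (algebraMap R C)) C :=
    RegLoc.CompleteTrans.isAdicComplete_of_le (map_maximalIdeal_le' R C)
  haveI : IsAdicComplete (maximalIdeal R) C := (IsAdicComplete.map_algebraMap_iff _ _).mp ‹_›
  have hb : Function.Bijective v.toLinearMap := by
    refine AdicFS.FlatComplete.bijective (J := maximalIdeal R) v.toLinearMap (fun c => ?_) fun x hx => ?_
    · obtain ⟨x, hx⟩ := Ideal.Quotient.mk_surjective (π c)
      refine ⟨x, ?_⟩
      rw [Ideal.smul_top_eq_map, Submodule.restrictScalars_mem, ← hker, RingHom.mem_ker, map_sub,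
        sub_eq_zero]
      exact hx.symm.trans (hv' x).symm
    · rw [Ideal.smul_top_eq_map, Submodule.restrictScalars_mem] at hx ⊢
      rw [← hker, RingHom.mem_ker] at hx
      exact Ideal.Quotient.eq_zero_iff_mem.mp ((hv' x).symm.trans hx)
  exact Module.Flat.of_linearEquiv (LinearEquiv.ofBijective v.toLinearMap hb)

/-- Formally smooth implies flat. -/
theorem flat_of_isAdicFormallySmooth [IsNoetherianRing R] [IsNoetherianRing S]
    (h : CAlgX.IsAdicFormallySmooth R S (maximalIdeal S)) : Module.Flat R S := by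
  let R' := AdicCompletion (maximalIdeal R) R
  let S' := AdicCompletion (maximalIdeal S) S
  haveI : IsNoetherianRing R' := RegLoc.Completion.isNoetherianRing_adicCompletion' _
  haveI : IsNoetherianRing S' := RegLoc.Completion.isNoetherianRing_adicCompletion' _
  obtain ⟨inst, htower, hloc⟩ := EGA4Lib.exists_algebra_cpl R S
  have h1 := (Groth.Agent.S9317.result (maximalIdeal R) (maximalIdeal S) (IsNoetherian.noetherian _)
    (IsNoetherian.noetherian _) ⟨1, by rw [pow_one]; exact map_maximalIdeal_le' R S⟩
    (algebraMap R' S') (by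
      rw [← IsScalarTower.algebraMap_eq, ← IsScalarTower.algebraMap_eq])).mp h
  rw [← AdicCompletion.maximalIdeal_eq_map (R := S)] at h1
  have hAlg : (algebraMap R' S').toAlgebra = inst := Algebra.algebra_ext _ _ fun _ => rfl
  rw [hAlg] at h1
  haveI : Module.Flat R' S' := flat_of_complete h1
  haveI : Module.Flat R S' := Module.Flat.trans R R' S'
  haveI : Module.FaithfullyFlat S S' := Module.FaithfullyFlat.of_flat_of_isLocalHom
  exact FDesc.Algebra.flat_of_comp_faithfullyFlat (A := R) (B := S) (C := S')

end Groth.Agent.AdicFlat
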