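import Groth.Prelude.Def_CAlgX
import Groth.Agent.S9316
import Groth.Agent.CAlg48.FlatFS

/-!
# A flat local algebra with adically formally smooth fibre is adically formally smooth
-/

namespace Groth.Agent.AdicFlat

open IsLocalRing

universe u

/-- A commutative ring with a finitely generated nilpotent ideal modulo which it is Noetherian is
Noetherian. -/
lemma isNoetherianRing_of_nilpotent {E : Type u} [CommRing E] (I : Ideal E) (hI : IsNilpotent I)
    (hfg : I.FG) [IsNoetherianRing (E ⧸ I)] : IsNoetherianRing E := by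
  refine IsNoetherianRing.of_prime fun P hP => ?_
  obtain ⟨n, hn⟩ := hI
  have hle : I ≤ P := by
    refine hP.le_of_pow_le (n := n) ?_
    rw [hn]
    exact bot_le
  have hmap : (Submodule.map (I.mkQ) P).FG := by
    have h1 : ((P.map (Ideal.Quotient.mk I) : Ideal (E ⧸ I))).FG := IsNoetherian.noetherian _
    obtain ⟨t, ht⟩ := h1
    classical
    choose g hg using fun y : E ⧸ I => Ideal.Quotient.mk_surjective y
    refine ⟨t, le_antisymm ?_ ?_⟩
    · rw [Submodule.span_le]
      intro y hy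
      have : y ∈ P.map (Ideal.Quotient.mk I) := ht ▸ Ideal.subset_span hy
      obtain ⟨x, hx, rfl⟩ :=
        (Ideal.mem_map_iff_of_surjective _ Ideal.Quotient.mk_surjective).mp this
      exact ⟨x, hx, rfl⟩
    · rintro y ⟨x, hx, rfl⟩
      have : Ideal.Quotient.mk I x ∈ P.map (Ideal.Quotient.mk I) := Ideal.mem_map_of_mem _ hx
      rw [← ht] at this
      rw [← SetLike.mem_coe]
      rw [← Submodule.restrictScalars_span E (E ⧸ I) Ideal.Quotient.mk_surjective]
      exact this
  refine Submodule.fg_of_fg_map_of_fg_inf_ker I.mkQ hmap ?_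
  rw [Submodule.ker_mkQ, inf_eq_right.mpr hle]
  exact hfg

set_option maxHeartbeats 1000000 in
/-- A flat local algebra whose special fibre is formally smooth over the residue field, for the adic
topology of its maximal ideal, is formally smooth for the adic topology of the maximal ideal. -/
theorem isAdicFormallySmooth_of_flat {R S : Type u} [CommRing R] [CommRing S] [IsLocalRing R]
    [IsLocalRing S] [IsNoetherianRing S] [Algebra R S] [IsLocalHom (algebraMap R S)]
    [Module.Flat R S]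
    (h : CAlgX.IsAdicFormallySmooth (R ⧸ maximalIdeal R)
      (S ⧸ (maximalIdeal R).map (algebraMap R S))
      ((maximalIdeal S).map (Ideal.Quotient.mk _))) :
    CAlgX.IsAdicFormallySmooth R S (maximalIdeal S) := by
  classical
  refine Groth.Agent.S9316.result.mpr fun A _ _ _ _ _ J hJ2 hJ1 _ ψ _ hres => ?_
  haveI hsimp : IsSimpleModule A J := Module.length_eq_one_iff.mp hJ1
  -- the maximal ideal of `A` kills `J`
  have hmJ : ∀ a ∈ maximalIdeal A, ∀ j ∈ J, a * j = 0 := by
    intro a ha j hj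
    by_contra hne
    have hx : (⟨a * j, J.mul_mem_left a hj⟩ : J) ≠ 0 := fun hh => hne (congrArg Subtype.val hh)
    obtain ⟨b, hb⟩ := IsSimpleModule.toSpanSingleton_surjective A hx ⟨j, hj⟩
    have hb' : b * (a * j) = j := by simpa using congrArg Subtype.val hb
    have h1 : (1 - b * a) * j = 0 := by linear_combination -hb'
    have hu : IsUnit (1 - b * a) :=
      IsLocalRing.isUnit_one_sub_self_of_mem_nonunits _ (Ideal.mul_mem_left _ b ha)
    exact hne (by rw [hu.mul_right_eq_zero.mp h1, mul_zero])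
  -- presentation
  choose g hg using fun s : S => Ideal.Quotient.mk_surjective (ψ s)
  let φ : MvPolynomial S R →ₐ[R] A := MvPolynomial.aeval g
  let ε : MvPolynomial S R →ₐ[R] S := MvPolynomial.aeval id
  have hε : Function.Surjective ε := fun s => ⟨MvPolynomial.X s, MvPolynomial.aeval_X _ s⟩
  have hcomp : (Ideal.Quotient.mkₐ R J).comp φ = ψ.comp ε :=
    MvPolynomial.algHom_ext fun s => by simp [φ, ε, hg]
  have hφψ : ∀ p, Ideal.Quotient.mk J (φ p) = ψ (ε p) := fun p => AlgHom.congr_fun hcomp p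
  let I : Ideal (MvPolynomial S R) := RingHom.ker ε
  have hI : ∀ i ∈ I, φ i ∈ J := fun i hi => by
    rw [← Ideal.Quotient.eq_zero_iff_mem, hφψ, show ε i = 0 from hi, map_zero]
  let M : Ideal (MvPolynomial S R) := (maximalIdeal S).comap ε
  have hM : ∀ p ∈ M, φ p ∈ maximalIdeal A := fun p hp hu => by
    have h1 : IsUnit (ψ (ε p)) := hφψ p ▸ hu.map (Ideal.Quotient.mk J)
    exact hp (isUnit_of_map_unit ψ.toRingHom (ε p) h1)
  have hMI : ∀ p ∈ M, ∀ i ∈ I, φ (p * i) = 0 := fun p hp i hi => by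
    rw [map_mul]; exact hmJ _ (hM p hp) _ (hI i hi)
  let mP : Ideal (MvPolynomial S R) := (maximalIdeal R).map (algebraMap R (MvPolynomial S R))
  have hmPM : mP ≤ M := by
    refine Ideal.map_le_iff_le_comap.mpr fun r hr hu => hr ?_
    rw [ε.commutes] at hu
    exact isUnit_of_map_unit (algebraMap R S) r hu
  have hmPI : ∀ i ∈ I, i ∈ mP → φ i = 0 := fun i hi hi' => by
    have h1 := CAlg48.FlatFS.mem_map_mul_of_flat ε hε (maximalIdeal R) hi' hi
    refine Submodule.mul_induction_on (C := fun x => φ x = 0) h1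
      (fun p hp j hj => hMI p (hmPM hp) j hj) fun x y hx hy => ?_
    rw [map_add, hx, hy, add_zero]
  by_cases hzero : ∀ i ∈ I, φ i = 0
  · exact ⟨AlgHom.liftOfSurjective ε hε φ fun x hx => hzero x hx, AlgHom.ext fun s => by
      obtain ⟨p, rfl⟩ := hε s
      simp [hφψ]⟩
  push_neg at hzero
  obtain ⟨i₀, hi₀, hne⟩ := hzero
  let K₀ : Ideal (MvPolynomial S R) := I ⊓ RingHom.ker φ
  have hspan : ∀ i ∈ I, ∃ p, i - p * i₀ ∈ K₀ := fun i hi => by
    have hx : (⟨φ i₀, hI _ hi₀⟩ : J) ≠ 0 := fun hh => hne (congrArg Subtype.val hh)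
    obtain ⟨b, hb⟩ := IsSimpleModule.toSpanSingleton_surjective A hx ⟨φ i, hI _ hi⟩
    have hb' : b * φ i₀ = φ i := by simpa using congrArg Subtype.val hb
    obtain ⟨t, ht⟩ := hres.2 (residue _ (Ideal.Quotient.mk J b))
    obtain ⟨s, rfl⟩ := residue_surjective t
    rw [ResidueField.map_residue] at ht
    obtain ⟨p, rfl⟩ := hε s
    have h1 : Ideal.Quotient.mk J (φ p - b) ∈ maximalIdeal (A ⧸ J) := by
      rw [← IsLocalRing.residue_eq_zero_iff, map_sub, map_sub, hφψ]
      exact sub_eq_zero.mpr ht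
    have h2 : φ p - b ∈ maximalIdeal A := fun hu => h1 (hu.map (Ideal.Quotient.mk J))
    refine ⟨p, sub_mem hi (I.mul_mem_left p hi₀), ?_⟩
    change φ (i - p * i₀) = 0
    rw [map_sub, map_mul, ← hb']
    linear_combination -(hmJ _ h2 _ (hI _ hi₀))
  let L : Ideal (MvPolynomial S R) := K₀ ⊔ mP
  have hLI : ∀ i ∈ I, i ∈ L → φ i = 0 := fun i hi hiL => by
    obtain ⟨a, ha, b, hb, rfl⟩ := Submodule.mem_sup.mp hiL
    rw [map_add, show φ a = 0 from ha.2, zero_add]
    exact hmPI b (by simpa using sub_mem hi ha.1) hb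
  have hMIK : M * I ≤ K₀ := Ideal.mul_le.mpr fun p hp i hi => ⟨I.mul_mem_left p hi, hMI p hp i hi⟩
  have hIM : I ≤ M := fun i hi => by
    change ε i ∈ maximalIdeal S
    rw [show ε i = 0 from hi]
    exact zero_mem _
  -- `P/L` is Noetherian, hence `i₀` is outside some `M ^ n ⊔ L`
  have hIbar : I.map (Ideal.Quotient.mk L) = Ideal.span {Ideal.Quotient.mk L i₀} := by
    refine le_antisymm (Ideal.map_le_iff_le_comap.mpr fun i hi => ?_) ?_
    · obtain ⟨p, hp⟩ := hspan i hi
      have h1 : Ideal.Quotient.mk L i = Ideal.Quotient.mk L p * Ideal.Quotient.mk L i₀ := by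
        rw [← map_mul, Ideal.Quotient.eq]; exact Ideal.mem_sup_left hp
      rw [Ideal.mem_comap, h1]
      exact Ideal.mul_mem_left _ _ (Ideal.subset_span rfl)
    · rw [Ideal.span_le, Set.singleton_subset_iff]
      exact Ideal.mem_map_of_mem _ hi₀
  haveI hN : IsNoetherianRing (MvPolynomial S R ⧸ L) := by
    haveI : IsNoetherianRing ((MvPolynomial S R ⧸ L) ⧸ I.map (Ideal.Quotient.mk L)) := by
      let F := ((Ideal.Quotient.mk (I.map (Ideal.Quotient.mk L))).comp (Ideal.Quotient.mk L))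
      have hF : ∀ x ∈ RingHom.ker ε.toRingHom, F x = 0 := fun x hx =>
        Ideal.Quotient.eq_zero_iff_mem.mpr (Ideal.mem_map_of_mem _ hx)
      refine isNoetherianRing_of_surjective S _
        (ε.toRingHom.liftOfSurjective hε ⟨F, hF⟩) fun y => ?_
      obtain ⟨y, rfl⟩ := Ideal.Quotient.mk_surjective y
      obtain ⟨p, rfl⟩ := Ideal.Quotient.mk_surjective y
      exact ⟨ε p, RingHom.liftOfRightInverse_comp_apply _ _ _ _ p⟩
    refine isNoetherianRing_of_nilpotent (I.map (Ideal.Quotient.mk L)) ⟨2, ?_⟩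
      (hIbar ▸ Submodule.fg_span_singleton _)
    rw [Submodule.zero_eq_bot, ← Ideal.map_pow, Ideal.map_eq_bot_iff_le_ker, Ideal.mk_ker, pow_two]
    exact (Ideal.mul_mono_left hIM).trans (hMIK.trans le_sup_left)
  obtain ⟨n, hn⟩ : ∃ n, i₀ ∉ M ^ n ⊔ L := by
    by_contra hall
    push_neg at hall
    have h1 : Ideal.Quotient.mk L i₀ ∈
        (⨅ i : ℕ, (M.map (Ideal.Quotient.mk L)) ^ i • ⊤ : Ideal (MvPolynomial S R ⧸ L)) := by
      rw [Submodule.mem_iInf]
      intro n
      rw [smul_eq_mul, Ideal.mul_top, ← Ideal.map_pow]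
      obtain ⟨a, ha, b, hb, hab⟩ := Submodule.mem_sup.mp (hall n)
      rw [← hab, map_add, Ideal.Quotient.eq_zero_iff_mem.mpr hb, add_zero]
      exact Ideal.mem_map_of_mem _ ha
    obtain ⟨⟨r, hr⟩, hr'⟩ := (Ideal.mem_iInf_smul_pow_eq_bot_iff _ _).mp h1
    obtain ⟨r, hrM, rfl⟩ := (Ideal.mem_map_iff_of_surjective _ Ideal.Quotient.mk_surjective).mp hr
    rw [smul_eq_mul, ← map_mul,
      Ideal.Quotient.eq_zero_iff_mem.mpr (Ideal.mem_sup_left (hMIK (Ideal.mul_mem_mul hrM hi₀)))]
      at hr'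
    exact hne (hLI _ hi₀ (Ideal.Quotient.eq_zero_iff_mem.mp hr'.symm))
  let Ln : Ideal (MvPolynomial S R) := M ^ n ⊔ L
  have hLnI : ∀ i ∈ I, i ∈ Ln → φ i = 0 := fun i hi hiL => by
    by_contra hne'
    obtain ⟨p, hp⟩ := hspan i hi
    have hpM : p ∉ M := fun hpM => hne' <| by
      have h1 : φ (i - p * i₀) = 0 := hp.2
      rwa [map_sub, hMI p hpM i₀ hi₀, sub_zero] at h1
    have hu : IsUnit (ε p) := by
      by_contra hh
      exact hpM hh
    obtain ⟨q, hq⟩ := hε ↑hu.unit⁻¹
    have hqp : q * p - 1 ∈ M := hIM <| by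
      rw [RingHom.mem_ker, map_sub, map_mul, hq, map_one, hu.val_inv_mul, sub_self]
    refine hn ?_
    have e : i₀ = q * i - q * (i - p * i₀) - (q * p - 1) * i₀ := by ring
    rw [e]
    refine sub_mem (sub_mem (Ideal.mul_mem_left _ q hiL) ?_) ?_
    · exact Ideal.mem_sup_right (Ideal.mem_sup_left (Ideal.mul_mem_left _ q hp))
    · exact Ideal.mem_sup_right (Ideal.mem_sup_left (hMIK (Ideal.mul_mem_mul hqp hi₀)))
  -- apply formal smoothness of the fibre to `P/Ln → P/(I + Ln)`
  let k := R ⧸ maximalIdeal R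
  let E := MvPolynomial S R ⧸ Ln
  have hkE : ∀ r ∈ maximalIdeal R, algebraMap R E r = 0 := fun r hr =>
    Ideal.Quotient.eq_zero_iff_mem.mpr
      (Ideal.mem_sup_right (Ideal.mem_sup_right (Ideal.mem_map_of_mem _ hr)))
  letI : Algebra k E := (Ideal.Quotient.lift (maximalIdeal R) (algebraMap R E) hkE).toAlgebra
  let Jn : Ideal E := I.map (Ideal.Quotient.mk Ln)
  have hJn : Jn ^ 2 = ⊥ := by
    rw [← Ideal.map_pow, Ideal.map_eq_bot_iff_le_ker, Ideal.mk_ker, pow_two]
    exact (Ideal.mul_mono_left hIM).trans (hMIK.trans (le_sup_left.trans le_sup_right))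
  let F : MvPolynomial S R →+* E ⧸ Jn := (Ideal.Quotient.mk Jn).comp (Ideal.Quotient.mk Ln)
  have hF : ∀ x ∈ RingHom.ker ε.toRingHom, F x = 0 := fun x hx =>
    Ideal.Quotient.eq_zero_iff_mem.mpr (Ideal.mem_map_of_mem _ hx)
  let F₁ : S →+* E ⧸ Jn := ε.toRingHom.liftOfSurjective hε ⟨F, hF⟩
  have hF₁ : ∀ p, F₁ (ε p) = F p := RingHom.liftOfRightInverse_comp_apply _ _ _ _
  have hF₁r : ∀ r, F₁ (algebraMap R S r) = algebraMap R (E ⧸ Jn) r := fun r => by
    rw [← ε.commutes r, hF₁]; rfl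
  have hF₁m : ∀ x ∈ (maximalIdeal R).map (algebraMap R S), F₁ x = 0 := by
    intro x hx
    refine (Ideal.map_le_iff_le_comap.mpr (?_ : maximalIdeal R ≤ (RingHom.ker F₁).comap _)) hx
    intro r hr
    rw [Ideal.mem_comap, RingHom.mem_ker, hF₁r]
    change Ideal.Quotient.mk Jn (algebraMap R E r) = 0
    rw [hkE r hr, map_zero]
  let Fk : S ⧸ (maximalIdeal R).map (algebraMap R S) →ₐ[k] E ⧸ Jn :=
    { Ideal.Quotient.lift _ F₁ hF₁m with
      commutes' := fun c => by
        obtain ⟨r, rfl⟩ := Ideal.Quotient.mk_surjective c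
        exact hF₁r r }
  obtain ⟨s, hs⟩ := h E Jn hJn Fk ⟨n, fun x hx => by
    rw [← Ideal.map_pow, Ideal.mem_map_iff_of_surjective _ Ideal.Quotient.mk_surjective] at hx
    obtain ⟨y, hy, rfl⟩ := hx
    have hy' : y ∈ (M ^ n).map ε := by
      rw [Ideal.map_pow, Ideal.map_comap_of_surjective _ hε]; exact hy
    obtain ⟨p, hp, rfl⟩ := (Ideal.mem_map_iff_of_surjective _ hε).mp hy'
    change F₁ (ε p) = 0
    rw [hF₁]
    change Ideal.Quotient.mk Jn (Ideal.Quotient.mk Ln p) = 0
    rw [Ideal.Quotient.eq_zero_iff_mem.mpr (Ideal.mem_sup_left hp), map_zero]⟩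
  -- choose representatives in `P` compatible with `id` and `s`
  let σ : S →+* E := s.toRingHom.comp (Ideal.Quotient.mk _)
  have hσr : ∀ r, σ (algebraMap R S r) = Ideal.Quotient.mk Ln (algebraMap R _ r) := fun r =>
    (s.commutes (Ideal.Quotient.mk _ r)).trans rfl
  have hex : ∀ x : S, ∃ p, ε p = x ∧ Ideal.Quotient.mk Ln p = σ x := fun x => by
    obtain ⟨p, rfl⟩ := hε x
    have h1 : σ (ε p) - Ideal.Quotient.mk Ln p ∈ Jn := by
      rw [← Ideal.Quotient.eq]
      exact (AlgHom.congr_fun hs (Ideal.Quotient.mk _ (ε p))).trans (hF₁ p)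
    obtain ⟨i, hi, hi'⟩ :=
      (Ideal.mem_map_iff_of_surjective _ Ideal.Quotient.mk_surjective).mp h1
    exact ⟨p + i, by rw [map_add, show ε i = 0 from hi, add_zero],
      by rw [map_add, hi', add_sub_cancel]⟩
  choose d hd₁ hd₂ using hex
  have huniq : ∀ x p, ε p = x → Ideal.Quotient.mk Ln p = σ x → φ (d x) = φ p := fun x p h1 h2 => by
    rw [← sub_eq_zero, ← map_sub]
    exact hLnI _ (by rw [RingHom.mem_ker, map_sub, hd₁, h1, sub_self])
      (Ideal.Quotient.eq.mp ((hd₂ x).trans h2.symm))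
  refine ⟨{
    toFun := fun x => φ (d x)
    map_one' := (huniq 1 1 (map_one _) (by simp)).trans (map_one φ)
    map_mul' := fun x y => (huniq (x * y) (d x * d y) (by simp [hd₁])
      (by simp [hd₂])).trans (map_mul φ _ _)
    map_zero' := (huniq 0 0 (map_zero _) (by simp)).trans (map_zero φ)
    map_add' := fun x y => (huniq (x + y) (d x + d y) (by simp [hd₁])
      (by simp [hd₂])).trans (map_add φ _ _)
    commutes' := fun r => (huniq _ (algebraMap R _ r) (ε.commutes r) (hσr r).symm).trans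
      (φ.commutes r) }, AlgHom.ext fun x => ?_⟩
  exact (hφψ (d x)).trans (by rw [hd₁])

end Groth.Agent.AdicFlat
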